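import Mathlib.CategoryTheory.Triangulated.HomologicalFunctor
import Mathlib.CategoryTheory.Triangulated.Functor
import Mathlib.CategoryTheory.Adjunction.Basic
import Mathlib.Algebra.Category.Grp.Abelian
import Mathlib.Algebra.Homology.ShortComplex.Ab

/-!
# Lemma R : a class of a homological functor comes from an object with prescribed restriction

`F ⊣ G` on the level of triangulated categories; `H` the cohomology functor downstairs.
`Φ` a homological functor upstairs, corepresented on the objects `G N` by `L`.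
-/

set_option autoImplicit false
set_option linter.style.haveILetI false
set_option linter.unusedSectionVars false
set_option backward.isDefEq.respectTransparency false
set_option backward.isDefEq.respectTransparency.types false

universe w v₁ v₂ v₃ u₁ u₂ u₃

open CategoryTheory Category Limits Pretriangulated

namespace Groth.Agent.ResProp.EF.K70

variable {C : Type u₁} {D : Type u₂} {A : Type u₃} [Category.{v₁} C] [Category.{v₂} D] [Category.{v₃} A]
  [HasZeroObject C] [HasShift C ℤ] [Preadditive C] [∀ n : ℤ, (shiftFunctor C n).Additive] [Pretriangulated C]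
  [HasZeroObject D] [HasShift D ℤ] [Preadditive D] [∀ n : ℤ, (shiftFunctor D n).Additive] [Pretriangulated D]
  [Abelian A]
  {F : C ⥤ D} {G : D ⥤ C} (adj : F ⊣ G) [F.CommShift ℤ] [F.IsTriangulated]
  (H : D ⥤ A) [H.ShiftSequence ℤ] [H.IsHomological]
  (Φ : C ⥤ AddCommGrpCat.{w}) [Φ.IsHomological]

/-- bijective on `H^i` for `i < m` and injective for `i ≤ m` -/
def Good {X Y : D} (m : ℤ) (l : X ⟶ Y) : Prop :=
  (∀ i < m, IsIso ((H.shift i).map l)) ∧ ∀ i ≤ m, Mono ((H.shift i).map l)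

instance (i : ℤ) : (H.shift i).Additive :=
  Functor.additive_of_iso (H.isoShift i)

/-- the exactness of `F G` on cohomology -/
structure FGExact (F : C ⥤ D) (G : D ⥤ C) (H : D ⥤ A) [H.ShiftSequence ℤ] : Prop where
  mono : ∀ {X Y : D} (f : X ⟶ Y) (i : ℤ), Mono ((H.shift i).map f) → Mono ((H.shift i).map (F.map (G.map f)))
  epi : ∀ {X Y : D} (f : X ⟶ Y) (i : ℤ), Epi ((H.shift i).map f) → Epi ((H.shift i).map (F.map (G.map f)))

section step

variable {H} (hFG : FGExact F G H) {L : D} {Y Y' : C} (l : L ⟶ F.obj Y) {f : Y' ⟶ G.obj L ⊞ Y}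
  {δ : G.obj (F.obj Y) ⟶ Y'⟦(1 : ℤ)⟧}
  (hT : Triangle.mk f (biprod.desc (G.map l) (-adj.unit.app Y)) δ ∈ distTriang C)

include hT in
theorem comp_eq : f ≫ biprod.fst ≫ G.map l = f ≫ biprod.snd ≫ adj.unit.app Y := by
  have h : f ≫ biprod.desc (G.map l) (-adj.unit.app Y) = 0 := comp_distTriang_mor_zero₁₂ _ hT
  rw [biprod.desc_eq, Preadditive.comp_add, Preadditive.comp_neg, Preadditive.comp_neg, ← sub_eq_add_neg,
    sub_eq_zero] at h
  exact h

include hFG hT in
theorem mono_mor₁ {m : ℤ} (hl : Good H m l) (i : ℤ) (hi : i ≤ m) : Mono ((H.shift i).map (F.map f)) := by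
  have hT' := F.map_distinguished _ hT
  refine (H.homologySequence_mono_shift_map_mor₁_iff _ hT' (i - 1) i (by lia)).2
    ((H.homologySequence_epi_shift_map_mor₂_iff _ hT' (i - 1) i (by lia)).1 ?_)
  change Epi ((H.shift (i - 1)).map (F.map (biprod.desc (G.map l) (-adj.unit.app Y))))
  haveI := hl.1 (i - 1) (by lia)
  haveI : Epi ((H.shift (i - 1)).map (F.map (G.map l))) := hFG.epi l (i - 1) inferInstance
  have h3 : (H.shift (i - 1)).map (F.map (biprod.inl : G.obj L ⟶ G.obj L ⊞ Y)) ≫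
      (H.shift (i - 1)).map (F.map (biprod.desc (G.map l) (-adj.unit.app Y))) =
      (H.shift (i - 1)).map (F.map (G.map l)) := by
    rw [← Functor.map_comp, ← Functor.map_comp, biprod.inl_desc]
  exact epi_of_epi_fac h3

include hFG hT in
/-- the adjoint projection is injective on cohomology in low degrees -/
theorem mono_q {m : ℤ} (hl : Good H m l) (i : ℤ) (hi : i ≤ m) :
    Mono ((H.shift i).map (F.map (f ≫ biprod.fst) ≫ adj.counit.app L)) := by
  haveI := mono_mor₁ adj hFG l hT hl i hi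
  refine Preadditive.mono_of_cancel_zero _ fun {Z} z hz => ?_
  let K := H.shift i
  haveI hK : Mono (K.map (F.map (G.map l))) := hFG.mono l i (hl.2 i hi)
  have e0 : F.map (f ≫ biprod.fst) ≫ F.map (G.map l) =
      F.map (f ≫ biprod.snd) ≫ F.map (adj.unit.app Y) := by
    rw [← Functor.map_comp, ← Functor.map_comp, assoc, assoc, comp_eq adj l hT]
  have e1 : F.map (f ≫ biprod.snd) = (F.map (f ≫ biprod.fst) ≫ adj.counit.app L) ≫ l := by
    have h4 : F.map (f ≫ biprod.snd) ≫ F.map (adj.unit.app Y) ≫ adj.counit.app (F.obj Y) =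
        F.map (f ≫ biprod.snd) := by
      rw [adj.left_triangle_components, comp_id]
    rw [← h4, ← assoc, ← e0, assoc, assoc]
    congr 1
    exact adj.counit_naturality l
  have h5 : z ≫ K.map (F.map (f ≫ biprod.snd)) = 0 := by
    rw [e1, Functor.map_comp, ← assoc, hz, zero_comp]
  have h6 : z ≫ K.map (F.map (f ≫ biprod.fst)) = 0 := by
    rw [← cancel_mono (K.map (F.map (G.map l))), assoc, ← Functor.map_comp, e0, Functor.map_comp, ← assoc, h5,
      zero_comp, zero_comp]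
  rw [← cancel_mono (K.map (F.map f)), zero_comp]
  have h7 : (𝟙 _ : F.obj (G.obj L ⊞ Y) ⟶ _) = F.map biprod.fst ≫ F.map biprod.inl + F.map biprod.snd ≫
      F.map biprod.inr := by
    rw [← F.map_comp, ← F.map_comp, ← F.map_add, biprod.total, F.map_id]
  have h8 : F.map f = F.map (f ≫ biprod.fst) ≫ F.map biprod.inl + F.map (f ≫ biprod.snd) ≫ F.map biprod.inr := by
    conv_lhs => rw [← comp_id (F.map f), h7, Preadditive.comp_add]
    rw [F.map_comp f, F.map_comp f, assoc, assoc]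
  change z ≫ K.map (F.map f) = 0
  rw [h8, K.map_add, K.map_comp, K.map_comp, Preadditive.comp_add, ← assoc, ← assoc, h5, h6, zero_comp, zero_comp,
    add_zero]

include hFG hT in
theorem good_succ {m : ℤ} (hl : Good H m l) (l' : L ⟶ F.obj Y')
    (h : ∀ i : ℤ, (H.shift i).map (l' ≫ F.map (f ≫ biprod.fst) ≫ adj.counit.app L) = 𝟙 ((H.shift i).obj L)) :
    Good H (m + 1) l' := by
  have h0 : ∀ i : ℤ, (H.shift i).map l' ≫ (H.shift i).map (F.map (f ≫ biprod.fst) ≫ adj.counit.app L) =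
      𝟙 ((H.shift i).obj L) :=
    fun i => by rw [← Functor.map_comp, h]
  refine ⟨fun i hi => ?_, fun i _ => ?_⟩
  · haveI := mono_q adj hFG l hT hl i (by lia)
    refine ⟨(H.shift i).map (F.map (f ≫ biprod.fst) ≫ adj.counit.app L), h0 i, ?_⟩
    rw [← cancel_mono ((H.shift i).map (F.map (f ≫ biprod.fst) ≫ adj.counit.app L)), assoc, h0, comp_id, id_comp]
  · haveI : Mono ((H.shift i).map l' ≫ (H.shift i).map (F.map (f ≫ biprod.fst) ≫ adj.counit.app L)) := by
      rw [h0]
      infer_instance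
    exact mono_of_mono _ ((H.shift i).map (F.map (f ≫ biprod.fst) ≫ adj.counit.app L))

end step

theorem mc {X Y Z : C} (f : X ⟶ Y) (g : Y ⟶ Z) (x : Φ.obj X) : Φ.map g (Φ.map f x) = Φ.map (f ≫ g) x := by
  rw [Φ.map_comp, ConcreteCategory.comp_apply]

/-- the data of the corepresentation on the objects `G N`: existence and uniqueness on cohomology -/
structure Corep (P : ObjectProperty C) (L : D) (ι : Φ.obj (G.obj L)) : Prop where
  gen : ∀ (Y : C), P Y → ∀ y : Φ.obj Y, ∃ l : L ⟶ F.obj Y, Φ.map (G.map l) ι = Φ.map (adj.unit.app Y) y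
  uniq : ∀ l : L ⟶ L, Φ.map (G.map l) ι = ι → ∀ i : ℤ, (H.shift i).map l = 𝟙 ((H.shift i).obj L)
  fib : ∀ (Y Y' : C) (f : Y' ⟶ G.obj L ⊞ Y) (g : G.obj L ⊞ Y ⟶ G.obj (F.obj Y)) (h : G.obj (F.obj Y) ⟶ Y'⟦(1 : ℤ)⟧),
    Triangle.mk f g h ∈ distTriang C → P Y → P Y'

section tower

variable {H Φ} (hFG : FGExact F G H) {P : ObjectProperty C} {L : D} {ι : Φ.obj (G.obj L)}
  (hc : Corep adj H Φ P L ι)

include hFG hc in
theorem step {Y : C} (hY : P Y) (y : Φ.obj Y) (l : L ⟶ F.obj Y)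
    (hl : Φ.map (G.map l) ι = Φ.map (adj.unit.app Y) y) :
    ∃ (Y' : C) (p : Y' ⟶ Y) (y' : Φ.obj Y') (l' : L ⟶ F.obj Y'), P Y' ∧ Φ.map p y' = y ∧
      Φ.map (G.map l') ι = Φ.map (adj.unit.app Y') y' ∧ ∀ m : ℤ, Good H m l → Good H (m + 1) l' := by
  let φ : G.obj L ⊞ Y ⟶ G.obj (F.obj Y) := biprod.desc (G.map l) (-adj.unit.app Y)
  obtain ⟨Y', f, δ, hT⟩ := distinguished_cocone_triangle₁ φ
  have hY' : P Y' := hc.fib Y Y' f _ δ hT hY
  let x : Φ.obj (G.obj L ⊞ Y) := Φ.map biprod.inl ι + Φ.map biprod.inr y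
  have hx : Φ.map φ x = 0 := by
    have h1 : Φ.map φ (Φ.map biprod.inl ι) = Φ.map (G.map l) ι := by
      rw [mc]
      congr 3
      exact biprod.inl_desc _ _
    have h2 : Φ.map φ (Φ.map biprod.inr y) = - Φ.map (adj.unit.app Y) y := by
      rw [mc, show biprod.inr ≫ φ = -adj.unit.app Y from biprod.inr_desc _ _, Φ.map_neg]
      rfl
    change Φ.map φ (Φ.map biprod.inl ι + Φ.map biprod.inr y) = 0
    rw [map_add, h1, h2, hl, add_neg_cancel]
  obtain ⟨y', hy'⟩ : ∃ y' : Φ.obj Y', Φ.map f y' = Φ.map biprod.inl ι + Φ.map biprod.inr y :=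
    (ShortComplex.ab_exact_iff _).1 (Φ.map_distinguished_exact _ hT) x hx
  obtain ⟨l', hl'⟩ := hc.gen Y' hY' y'
  have hfst : Φ.map (f ≫ biprod.fst) y' = ι := by
    rw [← mc]
    refine (congrArg _ hy').trans ?_
    rw [map_add, mc, mc, biprod.inl_fst, biprod.inr_fst, Φ.map_id, Φ.map_zero]
    exact add_zero _
  have hsnd : Φ.map (f ≫ biprod.snd) y' = y := by
    rw [← mc]
    refine (congrArg _ hy').trans ?_
    rw [map_add, mc, mc, biprod.inl_snd, biprod.inr_snd, Φ.map_id, Φ.map_zero]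
    exact zero_add _
  refine ⟨Y', f ≫ biprod.snd, y', l', hY', hsnd, hl', fun m hm => good_succ adj hFG l hT hm l' fun i => ?_⟩
  refine hc.uniq _ ?_ i
  have h3 : G.map (l' ≫ F.map (f ≫ biprod.fst) ≫ adj.counit.app L) =
      G.map l' ≫ G.map (F.map (f ≫ biprod.fst)) ≫ G.map (adj.counit.app L) := by
    rw [G.map_comp, G.map_comp]
  have h4 : adj.unit.app Y' ≫ G.map (F.map (f ≫ biprod.fst)) ≫ G.map (adj.counit.app L) = f ≫ biprod.fst := by
    have h5 : adj.unit.app Y' ≫ G.map (F.map (f ≫ biprod.fst)) = (f ≫ biprod.fst) ≫ adj.unit.app (G.obj L) :=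
      (adj.unit.naturality (f ≫ biprod.fst)).symm
    rw [← assoc, h5, assoc, adj.right_triangle_components, comp_id]
  have h6 : Φ.map (G.map (F.map (f ≫ biprod.fst)) ≫ G.map (adj.counit.app L)) (Φ.map (adj.unit.app Y') y') = ι := by
    refine (mc Φ (adj.unit.app Y') (G.map (F.map (f ≫ biprod.fst)) ≫ G.map (adj.counit.app L)) y').trans ?_
    rw [h4]
    exact hfst
  rw [h3, ← mc, hl']
  exact h6

include hFG hc in
/-- the tower -/
theorem tower {Y : C} (hY : P Y) (y : Φ.obj Y) {m : ℤ} (hm : ∀ i ≤ m, IsZero ((H.shift i).obj L))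
    (hm' : ∀ i < m, IsZero ((H.shift i).obj (F.obj Y))) (n : ℕ) :
    ∃ (Y' : C) (p : Y' ⟶ Y) (y' : Φ.obj Y') (l' : L ⟶ F.obj Y'), P Y' ∧ Φ.map p y' = y ∧
      Φ.map (G.map l') ι = Φ.map (adj.unit.app Y') y' ∧ Good H (m + n) l' := by
  induction n with
  | zero =>
    obtain ⟨l, hl⟩ := hc.gen Y hY y
    refine ⟨Y, 𝟙 Y, y, l, hY, by rw [Φ.map_id]; rfl, hl, fun i hi => ?_, fun i hi => ?_⟩
    · have hi' : i < m := by simpa using hi
      exact (hm i hi'.le).isIso (hm' i hi') _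
    · exact (hm i (by simpa using hi)).mono _
  | succ n ih =>
    obtain ⟨Y', p, y', l', h1, h2, h3, h4⟩ := ih
    obtain ⟨Y'', p', y'', l'', g1, g2, g3, g4⟩ := step adj hFG hc h1 y' l' h3
    refine ⟨Y'', p' ≫ p, y'', l'', g1, ?_, g3, ?_⟩
    · rw [← mc, g2, h2]
    · have h5 := g4 _ h4
      rw [add_assoc] at h5
      exact_mod_cast h5

end tower

end Groth.Agent.ResProp.EF.K70
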