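import Mathlib.Algebra.Homology.HomotopyCategory.MappingCocone
import Mathlib.Algebra.Homology.HomologySequence
import Mathlib.Algebra.Homology.HomologicalComplexAbelian
import Mathlib.Algebra.Homology.Embedding.CochainComplex
import Mathlib.Algebra.Homology.HomotopyCategory.HomologicalFunctor
import Mathlib.CategoryTheory.Adjunction.Limits
import Mathlib.Algebra.Category.Grp.Abelian

/-!
# The REP lemma, honest complexes (744, 911, 475, 70)
-/

set_option autoImplicit false
set_option linter.style.haveILetI false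
set_option linter.unusedSectionVars false
set_option backward.isDefEq.respectTransparency false
set_option backward.isDefEq.respectTransparency.types false

universe t v₁ v₂ u₁ u₂

open CategoryTheory Category Limits HomologicalComplex

namespace Groth.Agent.ResProp.EF.K70.RepA

variable {C : Type u₁} {M : Type u₂} [Category.{v₁} C] [Category.{v₂} M] [Abelian C] [Abelian M]

section adj

variable {u : C ⥤ M} {v : M ⥤ C} (adj : u ⊣ v) [u.Additive] [v.Additive]

variable (u) in
/-- `u` on complexes -/
abbrev U : CochainComplex C ℤ ⥤ CochainComplex M ℤ := u.mapHomologicalComplex (ComplexShape.up ℤ)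

/-- the unit on complexes -/
def eta (Y : CochainComplex C ℤ) : Y ⟶ (U v).obj ((U u).obj Y) where
  f i := adj.unit.app (Y.X i)
  comm' i j _ := (adj.unit.naturality (Y.d i j)).symm

/-- the counit on complexes -/
def eps (N : CochainComplex M ℤ) : (U u).obj ((U v).obj N) ⟶ N where
  f i := adj.counit.app (N.X i)
  comm' i j _ := (adj.counit.naturality (N.d i j)).symm

theorem eta_nat {Y Y' : CochainComplex C ℤ} (f : Y ⟶ Y') : f ≫ eta adj Y' = eta adj Y ≫ (U v).map ((U u).map f) := by
  ext i
  exact adj.unit.naturality (f.f i)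

theorem eps_nat {N N' : CochainComplex M ℤ} (f : N ⟶ N') : (U u).map ((U v).map f) ≫ eps adj N' = eps adj N ≫ f := by
  ext i
  exact adj.counit.naturality (f.f i)

theorem tri_left (Y : CochainComplex C ℤ) : (U u).map (eta adj Y) ≫ eps adj ((U u).obj Y) = 𝟙 _ := by
  ext i
  exact adj.left_triangle_components (Y.X i)

theorem tri_right (N : CochainComplex M ℤ) : eta adj ((U v).obj N) ≫ (U v).map (eps adj N) = 𝟙 _ := by
  ext i
  exact adj.right_triangle_components (N.X i)

end adj

section J

/-- a contractible complex over `K` -/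
noncomputable abbrev J (K : CochainComplex C ℤ) : CochainComplex C ℤ := CochainComplex.mappingCocone (𝟙 K)

/-- the projection -/
noncomputable abbrev r (K : CochainComplex C ℤ) : J K ⟶ K := CochainComplex.mappingCocone.fst (𝟙 K)

instance (K : CochainComplex C ℤ) : Epi (r K) := by
  haveI : ∀ i, Epi ((r K).f i) := fun i =>
    (SplitEpi.mk ((CochainComplex.mappingCocone.inl (𝟙 K)).v i i (add_zero i))
      (CochainComplex.mappingCocone.inl_v_fst_f _ i)).epi
  exact HomologicalComplex.epi_of_epi_f _ inferInstance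


theorem J_acyclic (K : CochainComplex C ℤ) (i : ℤ) : (J K).ExactAt i := by
  rw [exactAt_iff_isZero_homology, IsZero.iff_id_eq_zero]
  have h := ((CochainComplex.mappingCone.homotopyToZeroOfId K).shift (-1)).homologyMap_eq i
  rw [CategoryTheory.Functor.map_id, CategoryTheory.Functor.map_zero, homologyMap_id, homologyMap_zero] at h
  exact h

theorem J_isZero (K : CochainComplex C ℤ) (i : ℤ) (h : IsZero (K.X i)) (h' : IsZero (K.X (i - 1))) :
    IsZero ((J K).X i) := by
  rw [IsZero.iff_id_eq_zero, ← CochainComplex.mappingCocone.id_X (𝟙 K) i (i - 1) (by lia)]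
  rw [h.eq_of_tgt ((CochainComplex.mappingCocone.fst (𝟙 K)).f i) 0,
    h'.eq_of_tgt ((CochainComplex.mappingCocone.snd (𝟙 K)).v i (i - 1) (by lia)) 0, zero_comp, zero_comp, add_zero]

end J

section Exact

variable (u : C ⥤ M) [u.Additive] [PreservesFiniteLimits u] [PreservesFiniteColimits u]

/-- exact functors and homology -/
noncomputable def hIso (K : CochainComplex C ℤ) (i : ℤ) : ((U u).obj K).homology i ≅ u.obj (K.homology i) :=
  (K.sc i).mapHomologyIso u

theorem hIso_nat {K L : CochainComplex C ℤ} (f : K ⟶ L) (i : ℤ) :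
    homologyMap ((U u).map f) i ≫ (hIso u L i).hom = (hIso u K i).hom ≫ u.map (homologyMap f i) :=
  ShortComplex.mapHomologyIso_hom_naturality ((shortComplexFunctor C (ComplexShape.up ℤ) i).map f) u

theorem mono_map {K L : CochainComplex C ℤ} (f : K ⟶ L) (i : ℤ) (h : Mono (homologyMap f i)) :
    Mono (homologyMap ((U u).map f) i) := by
  have h1 : homologyMap ((U u).map f) i = (hIso u K i).hom ≫ u.map (homologyMap f i) ≫ (hIso u L i).inv := by
    rw [← assoc, ← hIso_nat, assoc, Iso.hom_inv_id, comp_id]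
  rw [h1]
  infer_instance

theorem epi_map {K L : CochainComplex C ℤ} (f : K ⟶ L) (i : ℤ) (h : Epi (homologyMap f i)) :
    Epi (homologyMap ((U u).map f) i) := by
  have h1 : homologyMap ((U u).map f) i = (hIso u K i).hom ≫ u.map (homologyMap f i) ≫ (hIso u L i).inv := by
    rw [← assoc, ← hIso_nat, assoc, Iso.hom_inv_id, comp_id]
  rw [h1]
  infer_instance

theorem exactAt_map (K : CochainComplex C ℤ) (i : ℤ) (h : K.ExactAt i) : ((U u).obj K).ExactAt i := by
  rw [exactAt_iff_isZero_homology] at h ⊢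
  exact (u.map_isZero h).of_iso (hIso u K i)

theorem shortExact_map {S : ShortComplex (CochainComplex C ℤ)} (hS : S.ShortExact) : (S.map (U u)).ShortExact :=
  shortExact_of_degreewise_shortExact _ fun i =>
    (((shortExact_iff_degreewise_shortExact S).1 hS) i).map_of_exact u

end Exact


section step

variable {u : C ⥤ M} {v : M ⥤ C} (adj : u ⊣ v) [u.Additive] [v.Additive]
  [PreservesFiniteLimits u] [PreservesFiniteColimits u] [PreservesFiniteLimits v] [PreservesFiniteColimits v]

/-- bijective on `H^i` for `i < m` and injective for `i ≤ m` -/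
def Good {X Y : CochainComplex M ℤ} (m : ℤ) (l : X ⟶ Y) : Prop :=
  (∀ i < m, IsIso (homologyMap l i)) ∧ ∀ i ≤ m, Mono (homologyMap l i)

variable {Q : CochainComplex M ℤ} {Y : CochainComplex C ℤ} (l : Q ⟶ (U u).obj Y)

/-- the map whose kernel is the homotopy fibre product -/
noncomputable def g : ((U v).obj Q ⊞ Y) ⊞ J ((U v).obj ((U u).obj Y)) ⟶ (U v).obj ((U u).obj Y) :=
  biprod.desc (biprod.desc ((U v).map l) (-eta adj Y)) (r _)

instance : Epi (g adj l) := by
  have h : biprod.inr ≫ g adj l = r ((U v).obj ((U u).obj Y)) := biprod.inr_desc _ _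
  haveI : Epi (biprod.inr ≫ g adj l) := by rw [h]; infer_instance
  exact epi_of_epi biprod.inr (g adj l)

/-- the short exact sequence `0 ⟶ T' ⟶ vQ ⊞ Y ⊞ J ⟶ vuY ⟶ 0` -/
noncomputable def ses : ShortComplex (CochainComplex C ℤ) :=
  ShortComplex.mk (kernel.ι (g adj l)) (g adj l) (kernel.condition _)

theorem ses_shortExact : (ses adj l).ShortExact where
  exact := ShortComplex.exact_kernel (g adj l)
  mono_f := by dsimp [ses]; infer_instance
  epi_g := by dsimp [ses]; infer_instance

/-- the fibre product -/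
noncomputable abbrev T' : CochainComplex C ℤ := (ses adj l).X₁

/-- first projection -/
noncomputable def pq : T' adj l ⟶ (U v).obj Q := (ses adj l).f ≫ biprod.fst ≫ biprod.fst

/-- second projection -/
noncomputable def py : T' adj l ⟶ Y := (ses adj l).f ≫ biprod.fst ≫ biprod.snd

/-- third projection -/
noncomputable def pj : T' adj l ⟶ J ((U v).obj ((U u).obj Y)) := (ses adj l).f ≫ biprod.snd

theorem rel : pq adj l ≫ (U v).map l - py adj l ≫ eta adj Y + pj adj l ≫ r _ = 0 := by
  have h : (ses adj l).f ≫ g adj l = 0 := (ses adj l).zero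
  rw [g, biprod.desc_eq, biprod.desc_eq] at h
  simp only [Preadditive.comp_add, Preadditive.comp_neg] at h
  rw [pq, py, pj, sub_eq_add_neg]
  simp only [assoc]
  rw [← h]

/-- the relation on homology -/
theorem rel_h (i : ℤ) : homologyMap ((U u).map (pq adj l)) i ≫ homologyMap ((U u).map ((U v).map l)) i =
    homologyMap ((U u).map (py adj l)) i ≫ homologyMap ((U u).map (eta adj Y)) i := by
  have h1 : homologyMap ((U u).map (pj adj l ≫ r ((U v).obj ((U u).obj Y)))) i = 0 := by
    rw [(U u).map_comp, homologyMap_comp]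
    have h2 : IsZero (homology ((U u).obj (J ((U v).obj ((U u).obj Y)))) i) :=
      (exactAt_map u _ i (J_acyclic _ i)).isZero_homology
    rw [h2.eq_of_tgt (homologyMap ((U u).map (pj adj l)) i) 0, zero_comp]
  have h3 : homologyMap ((U u).map (pq adj l ≫ (U v).map l - py adj l ≫ eta adj Y + pj adj l ≫ r _)) i = 0 := by
    rw [rel, (U u).map_zero, homologyMap_zero]
  rw [(U u).map_add, homologyMap_add, h1, add_zero, (U u).map_sub, homologyMap_sub, sub_eq_zero, (U u).map_comp,
    (U u).map_comp, homologyMap_comp, homologyMap_comp] at h3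
  exact h3

include adj in
theorem mono_f {m : ℤ} (hl : Good m l) (i : ℤ) (hi : i ≤ m) : Mono (homologyMap ((U u).map (ses adj l).f) i) := by
  have hS := shortExact_map u (ses_shortExact adj l)
  haveI := hl.1 (i - 1) (by lia)
  haveI h1 : Epi (homologyMap ((U u).map ((U v).map l)) (i - 1)) := epi_map u _ _ (epi_map v _ _ inferInstance)
  haveI h2 : Epi (homologyMap ((U u).map (g adj l)) (i - 1)) := by
    have h3 : homologyMap ((U u).map (biprod.inl ≫ biprod.inl)) (i - 1) ≫ homologyMap ((U u).map (g adj l)) (i - 1) =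
        homologyMap ((U u).map ((U v).map l)) (i - 1) := by
      rw [← homologyMap_comp, ← (U u).map_comp, assoc, g, biprod.inl_desc, biprod.inl_desc]
    haveI : Epi (homologyMap ((U u).map (biprod.inl ≫ biprod.inl)) (i - 1) ≫
      homologyMap ((U u).map (g adj l)) (i - 1)) := by rw [h3]; exact h1
    exact epi_of_epi (homologyMap ((U u).map (biprod.inl ≫ biprod.inl)) (i - 1)) _
  have h4 : hS.δ (i - 1) i (by simp) = 0 := by
    have := hS.comp_δ (i - 1) i (by simp)
    exact (cancel_epi (homologyMap ((U u).map (g adj l)) (i - 1))).1 (this.trans comp_zero.symm)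
  exact (hS.homology_exact₁ (i - 1) i (by simp)).mono_g h4

/-- the adjoint of the first projection -/
noncomputable def qh : (U u).obj (T' adj l) ⟶ Q := (U u).map (pq adj l) ≫ eps adj Q

include adj in
/-- the adjoint projection is injective on cohomology in low degrees -/
theorem mono_q {m : ℤ} (hl : Good m l) (i : ℤ) (hi : i ≤ m) : Mono (homologyMap (qh adj l) i) := by
  haveI h1 := mono_f adj l hl i hi
  haveI := hl.2 i hi
  haveI hK : Mono (homologyMap ((U u).map ((U v).map l)) i) := mono_map u _ _ (mono_map v _ _ inferInstance)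
  refine Preadditive.mono_of_cancel_zero _ fun {Z} z hz => ?_
  have e1 : homologyMap ((U u).map (py adj l)) i = homologyMap (qh adj l) i ≫ homologyMap l i := by
    have h4 : homologyMap ((U u).map (py adj l)) i ≫ homologyMap ((U u).map (eta adj Y)) i ≫
        homologyMap (eps adj ((U u).obj Y)) i = homologyMap ((U u).map (py adj l)) i := by
      rw [← homologyMap_comp, tri_left, homologyMap_id, comp_id]
    rw [← h4, ← assoc, ← rel_h, assoc, ← homologyMap_comp, eps_nat, homologyMap_comp, qh, homologyMap_comp, assoc]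
  have h5 : z ≫ homologyMap ((U u).map (py adj l)) i = 0 := by rw [e1, ← assoc, hz, zero_comp]
  have h6 : z ≫ homologyMap ((U u).map (pq adj l)) i = 0 := by
    rw [← cancel_mono (homologyMap ((U u).map ((U v).map l)) i), assoc, rel_h, ← assoc, h5, zero_comp, zero_comp]
  have h7 : z ≫ homologyMap ((U u).map (pj adj l)) i = 0 := by
    have h2 : IsZero (homology ((U u).obj (J ((U v).obj ((U u).obj Y)))) i) :=
      (exactAt_map u _ i (J_acyclic _ i)).isZero_homology
    exact h2.eq_of_tgt _ _
  rw [← cancel_mono (homologyMap ((U u).map (ses adj l).f) i), zero_comp]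
  have h8 : (ses adj l).f = pq adj l ≫ biprod.inl ≫ biprod.inl + py adj l ≫ biprod.inr ≫ biprod.inl +
      pj adj l ≫ biprod.inr := by
    rw [pq, py, pj]
    apply biprod.hom_ext
    · apply biprod.hom_ext <;> simp
    · simp
  have h9 : ∀ {W W' : CochainComplex C ℤ} (a : T' adj l ⟶ W) (b : W ⟶ W'),
      z ≫ homologyMap ((U u).map a) i = 0 → z ≫ homologyMap ((U u).map (a ≫ b)) i = 0 := fun a b h => by
    rw [(U u).map_comp, homologyMap_comp, ← assoc, h, zero_comp]
  rw [h8, (U u).map_add, (U u).map_add, homologyMap_add, homologyMap_add, Preadditive.comp_add,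
    Preadditive.comp_add, h9 _ _ h5, h9 _ _ h6, h9 _ _ h7, add_zero, add_zero]

include adj in
theorem good_succ {m : ℤ} (hl : Good m l) (l' : Q ⟶ (U u).obj (T' adj l))
    (h : ∀ i : ℤ, homologyMap (l' ≫ qh adj l) i = 𝟙 (Q.homology i)) : Good (m + 1) l' := by
  have h0 : ∀ i : ℤ, homologyMap l' i ≫ homologyMap (qh adj l) i = 𝟙 (Q.homology i) :=
    fun i => by rw [← homologyMap_comp, h]
  refine ⟨fun i hi => ?_, fun i _ => ?_⟩
  · haveI := mono_q adj l hl i (by lia)
    refine ⟨homologyMap (qh adj l) i, h0 i, ?_⟩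
    rw [← cancel_mono (homologyMap (qh adj l) i), assoc, h0, comp_id, id_comp]
  · haveI : Mono (homologyMap l' i ≫ homologyMap (qh adj l) i) := by
      rw [h0]
      infer_instance
    exact mono_of_mono _ (homologyMap (qh adj l) i)

end step

/-- strictly bounded complexes -/
def Bd (K : CochainComplex C ℤ) : Prop := ∃ a b : ℤ, K.IsStrictlyGE a ∧ K.IsStrictlyLE b

theorem bd_iff (K : CochainComplex C ℤ) : Bd K ↔ ∃ a b : ℤ, ∀ i, i < a ∨ b < i → IsZero (K.X i) := by
  constructor
  · rintro ⟨a, b, h1, h2⟩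
    refine ⟨a, b, fun i hi => ?_⟩
    rcases hi with hi | hi
    · exact (K.isStrictlyGE_iff a).1 h1 i hi
    · exact (K.isStrictlyLE_iff b).1 h2 i hi
  · rintro ⟨a, b, h⟩
    exact ⟨a, b, (K.isStrictlyGE_iff a).2 fun i hi => h i (Or.inl hi),
      (K.isStrictlyLE_iff b).2 fun i hi => h i (Or.inr hi)⟩

theorem Bd.of_mono {K L : CochainComplex C ℤ} (f : K ⟶ L) [Mono f] (h : Bd L) : Bd K := by
  rw [bd_iff] at h ⊢
  obtain ⟨a, b, h⟩ := h
  refine ⟨a, b, fun i hi => ?_⟩
  exact (h i hi).of_mono (f.f i)

theorem Bd.biprod {K L : CochainComplex C ℤ} (h : Bd K) (h' : Bd L) : Bd (K ⊞ L) := by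
  rw [bd_iff] at h h' ⊢
  obtain ⟨a, b, h⟩ := h
  obtain ⟨a', b', h'⟩ := h'
  refine ⟨min a a', max b b', fun i hi => ?_⟩
  have e1 : IsZero (K.X i) := h i (by omega)
  have e2 : IsZero (L.X i) := h' i (by omega)
  rw [IsZero.iff_id_eq_zero]
  have h3 : (𝟙 (K ⊞ L) : K ⊞ L ⟶ K ⊞ L).f i = 0 := by
    rw [← biprod.total, add_f_apply, comp_f, comp_f, e1.eq_of_tgt ((biprod.fst : K ⊞ L ⟶ K).f i) 0,
      e2.eq_of_tgt ((biprod.snd : K ⊞ L ⟶ L).f i) 0, zero_comp, zero_comp, add_zero]
  exact h3

theorem Bd.map {K : CochainComplex C ℤ} (h : Bd K) (u : C ⥤ M) [u.Additive] : Bd ((U u).obj K) := by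
  rw [bd_iff] at h ⊢
  obtain ⟨a, b, h⟩ := h
  exact ⟨a, b, fun i hi => u.map_isZero (h i hi)⟩

theorem Bd.J {K : CochainComplex C ℤ} (h : Bd K) : Bd (J K) := by
  rw [bd_iff] at h ⊢
  obtain ⟨a, b, h⟩ := h
  exact ⟨a, b + 1, fun i hi => J_isZero K i (h i (by omega)) (h (i - 1) (by omega))⟩

end Groth.Agent.ResProp.EF.K70.RepA
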