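import Groth.Agent.ResProp.EF.K70.RepA

/-!
# The REP lemma, honest complexes: the tower and the truncation
-/

set_option autoImplicit false
set_option linter.style.haveILetI false
set_option linter.unusedSectionVars false
set_option backward.isDefEq.respectTransparency false
set_option backward.isDefEq.respectTransparency.types false

universe t v₁ v₂ u₁ u₂

open CategoryTheory Category Limits HomologicalComplex

namespace Groth.Agent.ResProp.EF.K70.RepA

variable {C : Type u₁} {M : Type u₂} [Category.{v₁} C] [Category.{v₂} M] [Abelian C] [Abelian M]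

/-- honest cohomological functors on bounded complexes -/
structure Co (h : CochainComplex C ℤ ⥤ AddCommGrpCat.{t}) : Prop where
  additive : h.Additive
  exact : ∀ S : ShortComplex (CochainComplex C ℤ), S.ShortExact → Bd S.X₁ → Bd S.X₂ → Bd S.X₃ →
    ∀ x : h.obj S.X₂, (h.map S.g).hom x = 0 → ∃ y : h.obj S.X₁, (h.map S.f).hom y = x
  vanish : ∃ N : ℤ, ∀ Z : CochainComplex C ℤ, Bd Z → (∀ i ≤ N, Z.ExactAt i) → ∀ x : h.obj Z, x = 0

variable {h : CochainComplex C ℤ ⥤ AddCommGrpCat.{t}}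

theorem mc {X Y Z : CochainComplex C ℤ} (f : X ⟶ Y) (g : Y ⟶ Z) (x : h.obj X) :
    (h.map g).hom ((h.map f).hom x) = (h.map (f ≫ g)).hom x := by
  rw [h.map_comp]
  rfl

theorem m1 {X : CochainComplex C ℤ} (x : h.obj X) : (h.map (𝟙 X)).hom x = x := by
  rw [h.map_id]
  rfl

section

variable {u : C ⥤ M} {v : M ⥤ C} (adj : u ⊣ v) [u.Additive] [v.Additive]
  [PreservesFiniteLimits u] [PreservesFiniteColimits u] [PreservesFiniteLimits v] [PreservesFiniteColimits v]

theorem exists_lift (hh : Co h) {Q : CochainComplex M ℤ} (hQ : Bd Q) {Y : CochainComplex C ℤ} (hY : Bd Y)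
    (l : Q ⟶ (U u).obj Y) (q : h.obj ((U v).obj Q)) (y : h.obj Y)
    (hl : (h.map ((U v).map l)).hom q = (h.map (eta adj Y)).hom y) :
    ∃ y' : h.obj (T' adj l), (h.map (py adj l)).hom y' = y ∧ (h.map (pq adj l)).hom y' = q := by
  haveI := hh.additive
  have b1 : Bd (((U v).obj Q ⊞ Y) ⊞ J ((U v).obj ((U u).obj Y))) :=
    ((hQ.map v).biprod hY).biprod ((hY.map u).map v).J
  let x : h.obj (((U v).obj Q ⊞ Y) ⊞ J ((U v).obj ((U u).obj Y))) :=
    (h.map (biprod.inl ≫ biprod.inl)).hom q + (h.map (biprod.inr ≫ biprod.inl)).hom y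
  have hx : (h.map (g adj l)).hom x = 0 := by
    have h1 : (h.map (g adj l)).hom ((h.map (biprod.inl ≫ biprod.inl)).hom q) = (h.map ((U v).map l)).hom q := by
      rw [mc, assoc, g, biprod.inl_desc, biprod.inl_desc]
    have h2 : (h.map (g adj l)).hom ((h.map (biprod.inr ≫ biprod.inl)).hom y) = - (h.map (eta adj Y)).hom y := by
      rw [mc, assoc, g, biprod.inl_desc, biprod.inr_desc, h.map_neg]
      rfl
    change (h.map (g adj l)).hom ((h.map (biprod.inl ≫ biprod.inl)).hom q + (h.map (biprod.inr ≫ biprod.inl)).hom y) = 0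
    rw [map_add, h1, h2, hl, add_neg_cancel]
  haveI : Mono (ses adj l).f := (ses_shortExact adj l).mono_f
  obtain ⟨y', hy'⟩ : ∃ y' : h.obj (T' adj l), (h.map (ses adj l).f).hom y' = x :=
    hh.exact (ses adj l) (ses_shortExact adj l) (b1.of_mono (ses adj l).f) b1 ((hY.map u).map v) x hx
  let i1 : (U v).obj Q ⟶ ((U v).obj Q ⊞ Y) ⊞ J ((U v).obj ((U u).obj Y)) := biprod.inl ≫ biprod.inl
  let i2 : Y ⟶ ((U v).obj Q ⊞ Y) ⊞ J ((U v).obj ((U u).obj Y)) := biprod.inr ≫ biprod.inl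
  let p1 : ((U v).obj Q ⊞ Y) ⊞ J ((U v).obj ((U u).obj Y)) ⟶ (U v).obj Q := biprod.fst ≫ biprod.fst
  let p2 : ((U v).obj Q ⊞ Y) ⊞ J ((U v).obj ((U u).obj Y)) ⟶ Y := biprod.fst ≫ biprod.snd
  have e11 : i1 ≫ p1 = 𝟙 _ := by simp [i1, p1]
  have e12 : i1 ≫ p2 = 0 := by simp [i1, p2]
  have e21 : i2 ≫ p1 = 0 := by simp [i2, p1]
  have e22 : i2 ≫ p2 = 𝟙 _ := by simp [i2, p2]
  refine ⟨y', ?_, ?_⟩
  · have h1 : (h.map (py adj l)).hom y' = (h.map p2).hom ((h.map (ses adj l).f).hom y') := (mc _ _ _).symm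
    rw [h1, hy']
    change (h.map p2).hom ((h.map i1).hom q + (h.map i2).hom y) = y
    rw [map_add, mc, mc, e12, e22, h.map_zero, m1]
    exact zero_add _
  · have h1 : (h.map (pq adj l)).hom y' = (h.map p1).hom ((h.map (ses adj l).f).hom y') := (mc _ _ _).symm
    rw [h1, hy']
    change (h.map p1).hom ((h.map i1).hom q + (h.map i2).hom y) = q
    rw [map_add, mc, mc, e11, e21, h.map_zero, m1]
    exact add_zero _

/-- corepresentation on the `v N` -/
structure Rp (u : C ⥤ M) (v : M ⥤ C) [u.Additive] [v.Additive] (h : CochainComplex C ℤ ⥤ AddCommGrpCat.{t})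
    (Q : CochainComplex M ℤ) (q : h.obj ((U v).obj Q)) : Prop where
  ex : ∀ N : CochainComplex M ℤ, Bd N → ∀ x : h.obj ((U v).obj N), ∃ f : Q ⟶ N, (h.map ((U v).map f)).hom q = x
  uniq : ∀ N : CochainComplex M ℤ, Bd N → ∀ f g : Q ⟶ N,
    (h.map ((U v).map f)).hom q = (h.map ((U v).map g)).hom q → ∀ i : ℤ, homologyMap f i = homologyMap g i

include adj in
theorem step (hh : Co h) {Q : CochainComplex M ℤ} (hQ : Bd Q) {q : h.obj ((U v).obj Q)} (hr : Rp u v h Q q)
    {Y : CochainComplex C ℤ} (hY : Bd Y) (l : Q ⟶ (U u).obj Y) (y : h.obj Y)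
    (hl : (h.map ((U v).map l)).hom q = (h.map (eta adj Y)).hom y) :
    ∃ (Y' : CochainComplex C ℤ) (p : Y' ⟶ Y) (y' : h.obj Y') (l' : Q ⟶ (U u).obj Y'), Bd Y' ∧
      (h.map p).hom y' = y ∧ (h.map ((U v).map l')).hom q = (h.map (eta adj Y')).hom y' ∧
      ∀ m : ℤ, Good m l → Good (m + 1) l' := by
  obtain ⟨y', h1, h2⟩ := exists_lift adj hh hQ hY l q y hl
  haveI : Mono (ses adj l).f := (ses_shortExact adj l).mono_f
  have b1 : Bd (((U v).obj Q ⊞ Y) ⊞ J ((U v).obj ((U u).obj Y))) :=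
    ((hQ.map v).biprod hY).biprod ((hY.map u).map v).J
  have b2 : Bd (T' adj l) := b1.of_mono (ses adj l).f
  obtain ⟨l', hl'⟩ := hr.ex ((U u).obj (T' adj l)) (b2.map u) ((h.map (eta adj (T' adj l))).hom y')
  refine ⟨T' adj l, py adj l, y', l', b2, h1, hl', fun m hm => good_succ adj l hm l' fun i => ?_⟩
  rw [← homologyMap_id]
  refine hr.uniq Q hQ _ _ ?_ i
  rw [(U v).map_comp, ← mc, hl', mc, (U v).map_id, m1, qh, (U v).map_comp, ← assoc, ← eta_nat, assoc, tri_right,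
    comp_id, h2]

include adj in
theorem tower (hh : Co h) {Q : CochainComplex M ℤ} (hQ : Bd Q) {q : h.obj ((U v).obj Q)} (hr : Rp u v h Q q)
    {Y : CochainComplex C ℤ} (hY : Bd Y) (y : h.obj Y) {m : ℤ} (hm : ∀ i ≤ m, IsZero (Q.homology i))
    (hm' : ∀ i < m, IsZero (((U u).obj Y).homology i)) (n : ℕ) :
    ∃ (Y' : CochainComplex C ℤ) (p : Y' ⟶ Y) (y' : h.obj Y') (l' : Q ⟶ (U u).obj Y'), Bd Y' ∧
      (h.map p).hom y' = y ∧ (h.map ((U v).map l')).hom q = (h.map (eta adj Y')).hom y' ∧ Good (m + n) l' := by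
  induction n with
  | zero =>
    obtain ⟨l, hl⟩ := hr.ex ((U u).obj Y) (hY.map u) ((h.map (eta adj Y)).hom y)
    refine ⟨Y, 𝟙 Y, y, l, hY, m1 y, hl, fun i hi => ?_, fun i hi => ?_⟩
    · have hi' : i < m := by simpa using hi
      exact ⟨0, (hm i hi'.le).eq_of_src _ _, (hm' i hi').eq_of_src _ _⟩
    · have hi' : i ≤ m := by simpa using hi
      exact ⟨fun a b _ => (hm i hi').eq_of_tgt a b⟩
  | succ n ih =>
    obtain ⟨Y', p, y', l', h1, h2, h3, h4⟩ := ih
    obtain ⟨Y'', p', y'', l'', g1, g2, g3, g4⟩ := step adj hh hQ hr h1 l' y' h3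
    refine ⟨Y'', p' ≫ p, y'', l'', g1, ?_, g3, ?_⟩
    · rw [← mc, g2, h2]
    · have h5 := g4 _ h4
      rw [add_assoc] at h5
      exact_mod_cast h5

end

end Groth.Agent.ResProp.EF.K70.RepA
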