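import Groth.Agent.ResProp.EF.K70.RepB
import Groth.Agent.ResProp.EF.F5.Iface

/-!
# The REP lemma: truncation and the final statement `RepLemma X` of `F5/Iface`
-/

set_option autoImplicit false
set_option linter.style.haveILetI false
set_option linter.unusedSectionVars false
set_option backward.isDefEq.respectTransparency false
set_option backward.isDefEq.respectTransparency.types false

universe t v₁ v₂ u₁ u₂ w v u

open CategoryTheory Category Limits HomologicalComplex

namespace Groth.Agent.ResProp.EF.K70.RepA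

variable {C : Type u₁} {M : Type u₂} [Category.{v₁} C] [Category.{v₂} M] [Abelian C] [Abelian M]

section trunc

variable (Y : CochainComplex C ℤ) (c : ℤ)

/-- `0 ⟶ T ⟶ Y ⟶ τ^{≥ c+1} Y ⟶ 0` -/
noncomputable def tses : ShortComplex (CochainComplex C ℤ) :=
  ShortComplex.mk (kernel.ι (Y.πTruncGE (c + 1))) (Y.πTruncGE (c + 1)) (kernel.condition _)

theorem tses_shortExact : (tses Y c).ShortExact where
  exact := ShortComplex.exact_kernel _
  mono_f := by dsimp [tses]; infer_instance
  epi_g := by dsimp [tses, CochainComplex.πTruncGE]; infer_instance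

theorem trunc_exactAt (i : ℤ) (hi : i ≤ c) : (Y.truncGE (c + 1)).ExactAt i :=
  ExactAt.of_isZero (((Y.truncGE (c + 1)).isStrictlyGE_iff (c + 1)).1 inferInstance i (by lia))

theorem trunc_isZero (i : ℤ) (hi : i ≤ c) : IsZero ((Y.truncGE (c + 1)).X i) :=
  ((Y.truncGE (c + 1)).isStrictlyGE_iff (c + 1)).1 inferInstance i (by lia)

theorem isIso_h (i : ℤ) (hi : i ≤ c) : IsIso (homologyMap (tses Y c).f i) := by
  have hS := tses_shortExact Y c
  have z1 : IsZero ((tses Y c).X₃.homology (i - 1)) := (trunc_exactAt Y c (i - 1) (by lia)).isZero_homology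
  have z2 : IsZero ((tses Y c).X₃.homology i) := (trunc_exactAt Y c i hi).isZero_homology
  haveI : Mono (homologyMap (tses Y c).f i) :=
    (hS.homology_exact₁ (i - 1) i (by simp)).mono_g (z1.eq_of_src _ _)
  haveI : Epi (homologyMap (tses Y c).f i) := (hS.homology_exact₂ i).epi_f (z2.eq_of_tgt _ _)
  exact isIso_of_mono_of_epi _

theorem isZero_h (i : ℤ) (hi : c < i) : IsZero ((tses Y c).X₁.homology i) := by
  have hS := tses_shortExact Y c
  have q1 : IsIso (homologyMap (tses Y c).g i) := by
    have := Y.quasiIsoAt_πTruncGE (c + 1) i (by lia)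
    exact (quasiIsoAt_iff_isIso_homologyMap _ _).1 this
  have q2 : Epi (homologyMap (tses Y c).g (i - 1)) := by
    rcases lt_or_ge c (i - 1) with h | h
    · have := Y.quasiIsoAt_πTruncGE (c + 1) (i - 1) (by lia)
      have := (quasiIsoAt_iff_isIso_homologyMap _ _).1 this
      change Epi (homologyMap (Y.πTruncGE (c + 1)) (i - 1))
      infer_instance
    · have z : IsZero ((tses Y c).X₃.homology (i - 1)) := (trunc_exactAt Y c (i - 1) h).isZero_homology
      exact ⟨fun a b _ => z.eq_of_src a b⟩
  have h1 : homologyMap (tses Y c).f i = 0 := by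
    have h2 := (tses Y c).zero
    have h3 : homologyMap (tses Y c).f i ≫ homologyMap (tses Y c).g i = 0 := by
      rw [← homologyMap_comp, h2, homologyMap_zero]
    exact (cancel_mono (homologyMap (tses Y c).g i)).1 (h3.trans zero_comp.symm)
  have h4 : hS.δ (i - 1) i (by simp) = 0 :=
    (cancel_epi (homologyMap (tses Y c).g (i - 1))).1 ((hS.comp_δ (i - 1) i (by simp)).trans comp_zero.symm)
  haveI : Mono (homologyMap (tses Y c).f i) := (hS.homology_exact₁ (i - 1) i (by simp)).mono_g h4
  rw [IsZero.iff_id_eq_zero, ← cancel_mono (homologyMap (tses Y c).f i), h1, comp_zero, comp_zero]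

end trunc

section main

variable {h : CochainComplex C ℤ ⥤ AddCommGrpCat.{t}} {u : C ⥤ M} {v : M ⥤ C} (adj : u ⊣ v) [u.Additive] [v.Additive]
  [PreservesFiniteLimits u] [PreservesFiniteColimits u] [PreservesFiniteLimits v] [PreservesFiniteColimits v]

include adj in
/-- **REP LEMMA** -/
theorem rep (hh : Co h) {Q : CochainComplex M ℤ} (hQ : Bd Q) {q : h.obj ((U v).obj Q)} (hr : Rp u v h Q q)
    {Y : CochainComplex C ℤ} (hY : Bd Y) (y : h.obj Y) :
    ∃ (T : CochainComplex C ℤ) (p : T ⟶ Y) (s : h.obj T), Bd T ∧ (h.map p).hom s = y ∧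
      ∃ l : Q ⟶ (U u).obj T, QuasiIso l := by
  haveI := hh.additive
  obtain ⟨N, hN⟩ := hh.vanish
  obtain ⟨a, b, hab⟩ := (bd_iff Q).1 hQ
  obtain ⟨a', b', hab'⟩ := (bd_iff Y).1 hY
  let c : ℤ := max N b
  let m : ℤ := min a a' - 1
  have hm : ∀ i ≤ m, IsZero (Q.homology i) := fun i hi =>
    (ExactAt.of_isZero (hab i (Or.inl (by omega)))).isZero_homology
  have hm' : ∀ i < m, IsZero (((U u).obj Y).homology i) := fun i hi =>
    (ExactAt.of_isZero (u.map_isZero (hab' i (Or.inl (by omega))))).isZero_homology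
  obtain ⟨Y', p, y', l, bY, h1, h2, h3⟩ := tower adj hh hQ hr hY y hm hm' (c + 1 - m).toNat
  have h4 : c < m + ((c + 1 - m).toNat : ℤ) := by omega
  have hS := tses_shortExact Y' c
  haveI := hS.mono_f
  have bT : Bd (tses Y' c).X₁ := bY.of_mono (tses Y' c).f
  have b3 : Bd (tses Y' c).X₃ := by
    rw [bd_iff] at bY ⊢
    obtain ⟨a'', b'', h5⟩ := bY
    refine ⟨a'', b'', fun i hi => ?_⟩
    haveI := hS.epi_g
    exact (h5 i hi).of_epi ((tses Y' c).g.f i)
  obtain ⟨s, hs⟩ := hh.exact (tses Y' c) hS bT bY b3 y'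
    (hN _ b3 (fun i hi => trunc_exactAt Y' c i (by omega)) _)
  have hSu := shortExact_map u hS
  have h0 : l ≫ ((tses Y' c).map (U u)).g = 0 := by
    ext i
    rcases le_or_gt i c with hi | hi
    · exact (u.map_isZero (trunc_isZero Y' c i hi)).eq_of_tgt _ _
    · exact (hab i (Or.inr (by omega))).eq_of_src _ _
  haveI := hSu.mono_f
  let l' : Q ⟶ (U u).obj (tses Y' c).X₁ := hSu.exact.lift l h0
  have hl' : l' ≫ (U u).map (tses Y' c).f = l := hSu.exact.lift_f l h0
  refine ⟨(tses Y' c).X₁, (tses Y' c).f ≫ p, s, bT, ?_, l', ?_⟩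
  · refine (mc (tses Y' c).f p s).symm.trans ?_
    rw [hs]
    exact h1
  · rw [quasiIso_iff]
    intro i
    rw [quasiIsoAt_iff_isIso_homologyMap]
    rcases le_or_gt i c with hi | hi
    · haveI : IsIso (homologyMap l i) := h3.1 i (by omega)
      haveI : IsIso (homologyMap (tses Y' c).f i) := isIso_h Y' c i hi
      haveI : IsIso (homologyMap ((U u).map (tses Y' c).f) i) := by
        haveI := mono_map u (tses Y' c).f i inferInstance
        haveI := epi_map u (tses Y' c).f i inferInstance
        exact isIso_of_mono_of_epi _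
      haveI : IsIso (homologyMap l' i ≫ homologyMap ((U u).map (tses Y' c).f) i) := by
        rw [← homologyMap_comp, hl']
        infer_instance
      exact IsIso.of_isIso_comp_right _ (homologyMap ((U u).map (tses Y' c).f) i)
    · have z1 : IsZero (Q.homology i) := (ExactAt.of_isZero (hab i (Or.inr (by omega)))).isZero_homology
      have z2 : IsZero (((U u).obj (tses Y' c).X₁).homology i) :=
        (u.map_isZero (isZero_h Y' c i hi)).of_iso (hIso u _ i)
      exact ⟨0, z1.eq_of_src _ _, z2.eq_of_src _ _⟩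

end main

end Groth.Agent.ResProp.EF.K70.RepA

namespace Groth.Agent.ResProp.EF.K70

open Groth.Agent.ResProp.EF.K294 Groth.Agent.ResProp.EF.F5

variable {C : Type v} [Category.{w} C] [Abelian C] {A : Type u} [CommRing A] (X : Chart A C)

/-- the REP lemma (F5 (a)) -/
theorem repLemma : RepLemma.{t} X := by
  intro h hh Q hQ q hr Y hY y
  haveI : PreservesColimitsOfSize.{0, 0} X.us := X.adj.leftAdjoint_preservesColimits
  haveI : PreservesLimitsOfSize.{0, 0} X.ul := X.adj.rightAdjoint_preservesLimits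
  haveI : PreservesFiniteColimits X.us := PreservesColimitsOfSize.preservesFiniteColimits.{0, 0} X.us
  haveI : PreservesFiniteLimits X.ul := PreservesLimitsOfSize.preservesFiniteLimits.{0, 0} X.ul
  exact RepA.rep X.adj (h := h) ⟨hh.additive, hh.exact, hh.vanish⟩ hQ ⟨hr.ex, hr.uniq⟩ hY y

end Groth.Agent.ResProp.EF.K70

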